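import Groth.Prelude.Def_W4c3cyccovratcurvTree
import Mathlib.Combinatorics.SimpleGraph.Acyclic

/-! Conic deformations connect all marked trees of the same size. -/

set_option autoImplicit false

open W4c3cyccovratcurv

namespace ConicTreeLib

variable {k : ℕ}

theorem conicAdj_of_eq {n : ℕ} {G H : SimpleGraph (Fin n)} {hG : G.IsTree} {hH : H.IsTree} {m m' : Fin k → Fin n}
    {u w : Fin n} (h₁ : G.Adj u w) (h₂ : H.Adj u w) (he : contract G u w = contract H u w)
    (hm : ∀ i, contractMark m u w h₁.ne i = contractMark m' u w h₁.ne i) :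
    ConicAdj (⟨n, G, hG, m⟩ : MarkedTree k) ⟨n, H, hH, m'⟩ :=
  ⟨u, w, u, w, h₁, h₂, ⟨Equiv.refl _, by intro a b; rw [he]; rfl⟩, rfl, hm⟩

theorem conicAdj_symm {T₁ T₂ : MarkedTree k} (h : ConicAdj T₁ T₂) : ConicAdj T₂ T₁ := by
  obtain ⟨u₁, w₁, u₂, w₂, h₁, h₂, φ, h0, hm⟩ := h
  exact ⟨u₂, w₂, u₁, w₁, h₂, h₁, φ.symm, by rw [← h0]; exact φ.symm_apply_apply _, fun i => by
    rw [← hm i]; exact φ.symm_apply_apply _⟩

/-- Moving the neighbour `x` of `u` to the adjacent vertex `z`. -/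
def slide {n : ℕ} (G : SimpleGraph (Fin n)) (z u x : Fin n) : SimpleGraph (Fin n) :=
  G.deleteEdges {s(u, x)} ⊔ SimpleGraph.edge z x

theorem slide_adj {n : ℕ} {G : SimpleGraph (Fin n)} {z u x : Fin n} (hxz : x ≠ z) (a b : Fin n) :
    (slide G z u x).Adj a b ↔
      (G.Adj a b ∧ ¬(a = u ∧ b = x) ∧ ¬(a = x ∧ b = u)) ∨ (a = z ∧ b = x) ∨ (a = x ∧ b = z) := by
  simp only [slide, SimpleGraph.sup_adj, SimpleGraph.deleteEdges_adj, Set.mem_singleton_iff, Sym2.eq_iff,
    SimpleGraph.edge_adj]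
  constructor
  · rintro (⟨h, h'⟩ | ⟨h, -⟩)
    · exact Or.inl ⟨h, not_or.1 h'⟩
    · exact Or.inr h
  · rintro (⟨h, h'⟩ | h)
    · exact Or.inl ⟨h, not_or.2 h'⟩
    · refine Or.inr ⟨h, ?_⟩
      rintro rfl
      rcases h with ⟨h1, h2⟩ | ⟨h1, h2⟩ <;> exact hxz (by rw [← h1, ← h2])

theorem slide_isTree {n : ℕ} {G : SimpleGraph (Fin n)} (hG : G.IsTree) {z u x : Fin n} (hzu : G.Adj z u)
    (hux : G.Adj u x) (hxz : x ≠ z) (hzx : ¬G.Adj z x) : (slide G z u x).IsTree := by
  classical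
  obtain ⟨hc, hcard⟩ := SimpleGraph.isTree_iff_connected_and_card.1 hG
  refine SimpleGraph.isTree_iff_connected_and_card.2 ⟨?_, ?_⟩
  · haveI := hc.nonempty
    refine SimpleGraph.Connected.mk fun a b => ?_
    have key : ∀ a b, G.Adj a b → (slide G z u x).Reachable a b := by
      intro a b hab
      have hzu' : (slide G z u x).Reachable z u := SimpleGraph.Adj.reachable
        ((slide_adj hxz z u).2 (Or.inl ⟨hzu, fun h => hzu.ne h.1, fun h => hxz h.1.symm⟩))
      have hzx' : (slide G z u x).Reachable z x :=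
        SimpleGraph.Adj.reachable ((slide_adj hxz z x).2 (Or.inr (Or.inl ⟨rfl, rfl⟩)))
      by_cases h1 : a = u ∧ b = x
      · rw [h1.1, h1.2]; exact hzu'.symm.trans hzx'
      by_cases h2 : a = x ∧ b = u
      · rw [h2.1, h2.2]; exact hzx'.symm.trans hzu'
      exact SimpleGraph.Adj.reachable ((slide_adj hxz a b).2 (Or.inl ⟨hab, h1, h2⟩))
    obtain ⟨p⟩ := hc.preconnected a b
    induction p with
    | nil => exact SimpleGraph.Reachable.refl _
    | cons h _ ih => exact (key _ _ h).trans ih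
  · have he : (slide G z u x).edgeSet = insert s(z, x) (G.edgeSet \ {s(u, x)}) := by
      rw [slide, SimpleGraph.edgeSet_sup, SimpleGraph.edgeSet_deleteEdges, SimpleGraph.edgeSet_edge_of_ne hxz.symm,
        Set.union_singleton]
    rw [he, Nat.card_coe_set_eq, Set.ncard_insert_of_notMem (fun h => hzx h.1) (Set.toFinite _),
      Set.ncard_diff_singleton_of_mem (show s(u, x) ∈ G.edgeSet from hux)]
    rw [Nat.card_coe_set_eq] at hcard
    have : 0 < G.edgeSet.ncard := (Set.ncard_pos (Set.toFinite _)).2 ⟨s(u, x), hux⟩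
    omega

theorem contract_slide {n : ℕ} {G : SimpleGraph (Fin n)} {z u x : Fin n} (hzu : G.Adj z u) (hux : G.Adj u x)
    (hxz : x ≠ z) : contract G u z = contract (slide G z u x) u z := by
  have fwd : ∀ a b : Fin n, (G.Adj a b ∨ (a = u ∧ G.Adj z b)) →
      ((slide G z u x).Adj a b ∨ (a = u ∧ (slide G z u x).Adj z b)) ∨
        ((slide G z u x).Adj b a ∨ (b = u ∧ (slide G z u x).Adj z a)) := by
    intro a b h
    rcases h with h | ⟨hau, h⟩
    · by_cases e1 : a = u ∧ b = x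
      · exact Or.inl (Or.inr ⟨e1.1, (slide_adj hxz z b).2 (Or.inr (Or.inl ⟨rfl, e1.2⟩))⟩)
      by_cases e2 : a = x ∧ b = u
      · exact Or.inr (Or.inr ⟨e2.2, (slide_adj hxz z a).2 (Or.inr (Or.inl ⟨rfl, e2.1⟩))⟩)
      exact Or.inl (Or.inl ((slide_adj hxz a b).2 (Or.inl ⟨h, e1, e2⟩)))
    · exact Or.inl (Or.inr ⟨hau, (slide_adj hxz z b).2 (Or.inl ⟨h, fun e => hzu.ne e.1, fun e => hxz e.1.symm⟩)⟩)
  have bwd : ∀ a b : Fin n, a ≠ z → b ≠ z → ((slide G z u x).Adj a b ∨ (a = u ∧ (slide G z u x).Adj z b)) →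
      (G.Adj a b ∨ (a = u ∧ G.Adj z b)) := by
    intro a b ha hb h
    rcases h with h | ⟨hau, h⟩
    · rcases (slide_adj hxz a b).1 h with h | h | h
      · exact Or.inl h.1
      · exact absurd h.1 ha
      · exact absurd h.2 hb
    · rcases (slide_adj hxz z b).1 h with h | h | h
      · exact Or.inr ⟨hau, h.1⟩
      · exact Or.inl (by rw [hau, h.2]; exact hux)
      · exact absurd h.1.symm hxz
  ext ⟨a, ha⟩ ⟨b, hb⟩
  simp only [contract, SimpleGraph.fromRel_adj]
  refine and_congr_right fun _ => ⟨?_, ?_⟩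
  · rintro (h | h)
    · exact fwd a b h
    · exact (fwd b a h).symm
  · exact Or.imp (bwd a b ha hb) (bwd b a hb ha)

theorem exists_far {n : ℕ} {G : SimpleGraph (Fin n)} (hc : G.Connected) {z y : Fin n} (hy : y ≠ z) (hzy : ¬G.Adj z y) :
    ∃ u x, G.Adj z u ∧ G.Adj u x ∧ x ≠ z ∧ ¬G.Adj z x := by
  by_contra hcon
  push Not at hcon
  have : ∀ a b, G.Reachable a b → (a = z ∨ G.Adj z a) → (b = z ∨ G.Adj z b) := by
    rintro a b ⟨p⟩
    induction p with
    | nil => exact id
    | @cons a b c h _ ih =>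
      intro ha
      refine ih ?_
      rcases ha with rfl | ha
      · exact Or.inr h
      · rcases eq_or_ne b z with hb | hb
        · exact Or.inl hb
        · exact Or.inr (hcon a b ha h hb)
  exact (this z y (hc.preconnected z y) (Or.inl rfl)).elim hy hzy

/-- Star at `z`. -/
def IsStar {n : ℕ} (G : SimpleGraph (Fin n)) (z : Fin n) : Prop := ∀ x, x ≠ z → G.Adj z x

theorem star_adj {n : ℕ} {G : SimpleGraph (Fin n)} (hG : G.IsTree) {z : Fin n} (hs : IsStar G z) (a b : Fin n) :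
    G.Adj a b ↔ a ≠ b ∧ (a = z ∨ b = z) := by
  refine ⟨fun h => ⟨h.ne, ?_⟩, fun ⟨hab, h⟩ => ?_⟩
  · by_contra hcon
    push Not at hcon
    let p : G.Path a b := ⟨.cons h .nil, by simp [SimpleGraph.Walk.isPath_def, h.ne]⟩
    let q : G.Path a b := ⟨.cons (hs a hcon.1).symm (.cons (hs b hcon.2) .nil), by
      simp [SimpleGraph.Walk.isPath_def, hcon.1, h.ne, hcon.2.symm]⟩
    have := congrArg (fun r : G.Path a b => r.1.length) ((hG.isAcyclic.subsingleton_path a b).elim p q)
    simp [p, q] at this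
  · rcases h with rfl | rfl
    · exact hs b hab.symm
    · exact (hs a hab).symm

theorem reach_star {n : ℕ} (z : Fin n) (m : Fin k → Fin n) :
    ∀ (N : ℕ) (G : SimpleGraph (Fin n)) (hG : G.IsTree), {x | x ≠ z ∧ ¬G.Adj z x}.ncard = N →
      ∃ (H : SimpleGraph (Fin n)) (hH : H.IsTree), IsStar H z ∧
        Relation.ReflTransGen ConicAdj (⟨n, G, hG, m⟩ : MarkedTree k) ⟨n, H, hH, m⟩ := by
  intro N
  induction N using Nat.strong_induction_on with
  | _ N ih =>
    intro G hG hN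
    by_cases hs : IsStar G z
    · exact ⟨G, hG, hs, .refl⟩
    simp only [IsStar, not_forall] at hs
    obtain ⟨y, hy, hzy⟩ := hs
    obtain ⟨u, x, hzu, hux, hxz, hzx⟩ := exists_far hG.connected hy hzy
    have hT := slide_isTree hG hzu hux hxz hzx
    have hlt : {a | a ≠ z ∧ ¬(slide G z u x).Adj z a}.ncard < N := by
      rw [← hN]
      refine Set.ncard_lt_ncard ((Set.ssubset_iff_of_subset fun a ha => ?_).2 ⟨x, ⟨hxz, hzx⟩, fun h => h.2 ?_⟩) (Set.toFinite _)
      · exact ⟨ha.1, fun h => ha.2 ((slide_adj hxz z a).2 (Or.inl ⟨h, fun e => hzu.ne e.1, fun e => hxz e.1.symm⟩))⟩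
      · exact (slide_adj hxz z x).2 (Or.inr (Or.inl ⟨rfl, rfl⟩))
    obtain ⟨H, hH, hst, hr⟩ := ih _ hlt _ hT rfl
    refine ⟨H, hH, hst, .head ?_ hr⟩
    refine conicAdj_of_eq hzu.symm ?_ (contract_slide hzu hux hxz) fun _ => rfl
    exact (slide_adj hxz u z).2 (Or.inl ⟨hzu.symm, fun e => hxz e.2.symm, fun e => hux.ne e.1⟩)

theorem reach_marks {n : ℕ} (z : Fin n) (G : SimpleGraph (Fin n)) (hG : G.IsTree) (hs : IsStar G z) :
    ∀ (N : ℕ) (m : Fin k → Fin n), {i | m i ≠ z}.ncard = N →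
      Relation.ReflTransGen ConicAdj (⟨n, G, hG, m⟩ : MarkedTree k) ⟨n, G, hG, fun _ => z⟩ := by
  intro N
  induction N using Nat.strong_induction_on with
  | _ N ih =>
    intro m hN
    by_cases hz : ∀ i, m i = z
    · rw [show m = fun _ => z from funext hz]
    simp only [not_forall] at hz
    obtain ⟨j, hj⟩ := hz
    let m' : Fin k → Fin n := Function.update m j z
    have hlt : {i | m' i ≠ z}.ncard < N := by
      rw [← hN]
      refine Set.ncard_lt_ncard ((Set.ssubset_iff_of_subset fun i hi => ?_).2 ⟨j, hj, fun h => h ?_⟩) (Set.toFinite _)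
      · rcases eq_or_ne i j with rfl | hij
        · exact absurd (Function.update_self i z m : m' i = z) hi
        · exact fun e => hi ((Function.update_of_ne hij z m).trans e)
      · exact Function.update_self j z m
    refine .head ?_ (ih _ hlt m' rfl)
    refine conicAdj_of_eq (hs _ hj) (hs _ hj) rfl fun i => ?_
    unfold contractMark
    rcases eq_or_ne i j with rfl | hij
    · rw [dif_pos rfl, dif_neg (by rw [show m' i = z from Function.update_self i z m]; exact fun e => hj e.symm)]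
      exact Subtype.ext (Function.update_self i z m).symm
    · simp only [m', Function.update_of_ne hij]

theorem reachable (T₁ T₂ : MarkedTree k) (h : T₁.n = T₂.n) : Relation.ReflTransGen ConicAdj T₁ T₂ := by
  obtain ⟨n, G, hG, m⟩ := T₁
  obtain ⟨n', G', hG', m'⟩ := T₂
  obtain rfl : n = n' := h
  obtain ⟨z⟩ := hG.connected.nonempty
  obtain ⟨H, hH, hst, hr⟩ := reach_star z m _ G hG rfl
  obtain ⟨H', hH', hst', hr'⟩ := reach_star z m' _ G' hG' rfl
  have hr1 := hr.trans (reach_marks z H hH hst _ m rfl)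
  have hr2 := hr'.trans (reach_marks z H' hH' hst' _ m' rfl)
  obtain rfl : H = H' := by ext a b; rw [star_adj hH hst, star_adj hH' hst']
  exact hr1.trans ((@Relation.ReflTransGen.stdSymm _ _ ⟨fun _ _ => conicAdj_symm⟩).symm _ _ hr2)

end ConicTreeLib
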